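import Groth.Agent.GPBunLib.Slope
import Groth.Agent.GenBasis.Basic
import Groth.Agent.QC.Closure
import Groth.Prelude.Def_ParBun

/-!
Flags along a divisor on a curve: their pieces are coherent; `E(-D)` as a kernel and its functoriality.
-/

set_option autoImplicit false
set_option linter.style.haveILetI false
set_option linter.unusedSectionVars false
set_option backward.isDefEq.respectTransparency false

universe u

open CategoryTheory CategoryTheory.Limits AlgebraicGeometry TopologicalSpace Opposite
open Groth.Agent.QC (res res_res res_self app_res)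
open Groth.Agent.CohFinite (tmap tmap_tm)
open TMul (tm)

noncomputable section

namespace Groth.Agent.ParCurveLib

variable {X : Scheme.{u}}

/-- A submodule of a coherent module with zero-dimensional support is coherent. -/
theorem isCoh_sub_of_supported [IsLocallyNoetherian X] [NoetherianSpace X] {M Q : X.Modules} (m : M ⟶ Q) [Mono m]
    (hQ : Coh.IsCoh Q) {S : Set X} (hS : IsClosed S) (hd : topologicalKrullDim S ≤ 0)
    (hsupp : CohB1.support Q ⊆ S) : Coh.IsCoh M := by
  let P : X.Modules := ∐ fun _ : Γ(M, ⊤) => Coh.structureModule X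
  let e : P ⟶ M := Sigma.desc fun a => GenBasis.homOfTop a
  have hP : Coh.IsQCoh P := QC.isQCoh_colimit _ fun _ => QC.isQCoh_unit X
  haveI : Epi e := by
    refine Preadditive.epi_of_cancel_zero _ fun {N} g hg => Scheme.Modules.hom_ext _ _ fun U => ?_
    ext s
    have hM : CohB1.support M ⊆ S := (ParHilbLib.support_of_mono m).trans hsupp
    obtain ⟨a, ha⟩ := SuppZero.exists_extend_global M
      (fun T hT => SuppZero.isClosed_of_subset hS hd T (hT.trans hM)) U s
    have h0 : GenBasis.homOfTop a ≫ g = 0 := by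
      have := congrArg (fun f => Sigma.ι (fun _ : Γ(M, ⊤) => Coh.structureModule X) a ≫ f) hg
      simpa [e] using this
    have h1 : g.app ⊤ ((GenBasis.homOfTop a).app ⊤ (1 : Γ(X, ⊤))) = 0 :=
      ConcreteCategory.congr_hom (congrArg (fun f => Scheme.Modules.Hom.app f ⊤) h0) _
    rw [GenBasis.homOfTop_app, one_smul, res_self] at h1
    show g.app U s = 0
    rw [← ha, ← app_res, h1, map_zero]
  have hC : Coh.IsQCoh (cokernel (e ≫ m)) := QC.isQCoh_cokernel hP hQ.1 _
  have hK : Coh.IsCoh (kernel (cokernel.π (e ≫ m))) := QC.isCoh_kernel hQ hC _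
  refine CohFinite.isCoh_of_iso ?_ hK
  refine IsLimit.conePointUniqueUpToIso (kernelIsKernel _) (?_ : IsLimit (KernelFork.ofι m (?_ :
    m ≫ cokernel.π (e ≫ m) = 0)))
  · rw [← cancel_epi e, ← Category.assoc, cokernel.condition, comp_zero]
  · exact isKernelCompMono (Abelian.monoIsKernelOfCokernel _ (cokernelIsCokernel m))
      (cokernelEpiComp e m).inv (by simp)

theorem twistMap_eq (I : X.IdealSheafData) (E : X.Modules) :
    ParSh.twistMap I E = (TMul.commIso E (ClSub.idealMod I)).hom ≫ GPBunLib.ιD I E :=
  TMul.hom_ext fun U e r => by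
    show (SecTwist.unitorR E).hom.app U
        ((KoszTw.tensorMap (𝟙 E) (ClSub.idealModι I)).app U (tm e r)) =
      (TMul.leftUnitIso E).hom.app U ((tmap (ClSub.idealModι I) E).app U
        ((TMul.commHom E (ClSub.idealMod I)).app U (tm e r)))
    rw [TMul.commHom_tm, tmap_tm]
    have h : (KoszTw.tensorMap (𝟙 E) (ClSub.idealModι I)).app U (tm e r) =
        tm e ((ClSub.idealModι I).app U r) :=
      KoszTw.tensorMap_tmul (𝟙 E) _ U e r
    rw [h]
    erw [ResDesc.unitorR_tm E e, CurveRR.leftUnitIso_tm E _ e]

section Sub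

variable {A B : X.Modules}

theorem image_epi_comp {P : X.Modules} (g : P ⟶ A) [Epi g] (f : A ⟶ B) :
    imageSubobject (g ≫ f) = imageSubobject f := by
  refine le_antisymm (imageSubobject_comp_le g f) ?_
  have h : f ≫ cokernel.π (imageSubobject (g ≫ f)).arrow = 0 := by
    rw [← cancel_epi g, comp_zero, ← Category.assoc]
    exact (congrArg (· ≫ cokernel.π (imageSubobject (g ≫ f)).arrow) (imageSubobject_arrow_comp (g ≫ f))).symm.trans
      (by rw [Category.assoc, cokernel.condition, comp_zero])
  exact imageSubobject_le _ (Abelian.monoLift _ f h) (Abelian.monoLift_comp _ f h)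

theorem image_image {P C : X.Modules} (g : P ⟶ A) (f : A ⟶ C) :
    imageSubobject ((imageSubobject g).arrow ≫ f) = imageSubobject (g ≫ f) := by
  conv_rhs => rw [← imageSubobject_arrow_comp g, Category.assoc]
  exact (image_epi_comp _ _).symm

theorem pullback_kernel {C : X.Modules} (i : A ⟶ B) (f : B ⟶ C) :
    (Subobject.pullback i).obj (kernelSubobject f) = kernelSubobject (i ≫ f) := by
  refine le_antisymm (le_kernelSubobject _ _ ?_) ?_
  · rw [← Category.assoc, ← (Subobject.isPullback i (kernelSubobject f)).w, Category.assoc,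
      kernelSubobject_arrow_comp, comp_zero]
  · have h : ((kernelSubobject (i ≫ f)).arrow ≫ i) ≫ f = 0 := by
      rw [Category.assoc, kernelSubobject_arrow_comp]
    exact Subobject.le_of_comm ((Subobject.isPullback i (kernelSubobject f)).lift
      (factorThruKernelSubobject f _ h) _ (factorThruKernelSubobject_comp_arrow _ _ _))
      ((Subobject.isPullback i (kernelSubobject f)).lift_snd _ _ _)

end Sub

variable (I : X.IdealSheafData)

theorem twistSub_eq_image (E : X.Modules) : ParSh.twistSub I E = imageSubobject (GPBunLib.ιD I E) := by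
  show imageSubobject (ParSh.twistMap I E) = _
  simp only [twistMap_eq]
  exact image_epi_comp _ _

/-- `E(-D)` is the kernel of the restriction to `D`. -/
theorem twistSub_eq_kernel {n : ℕ} {E : X.Modules} (hE : FlatMod.IsFinLocFreeOfRank n E) :
    ParSh.twistSub I E = kernelSubobject (GPBunLib.qD I E) := by
  have hS := GPBunLib.shortExact_D I hE
  rw [twistSub_eq_image]
  refine le_antisymm (imageSubobject_le _ (factorThruKernelSubobject _ _ (GPBunLib.ιD_qD I E))
    (factorThruKernelSubobject_comp_arrow _ _ _)) ?_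
  obtain ⟨l, hl⟩ := KernelFork.IsLimit.lift' hS.fIsKernel (kernelSubobject (GPBunLib.qD I E)).arrow
    (kernelSubobject_arrow_comp _)
  refine Subobject.le_of_comm (l ≫ factorThruImageSubobject (GPBunLib.ιD I E)) ?_
  rw [Category.assoc, imageSubobject_arrow_comp]
  exact hl

theorem twistSub_map {E V : X.Modules} (q : E ⟶ V) [Epi q] :
    imageSubobject ((ParSh.twistSub I E).arrow ≫ q) = ParSh.twistSub I V := by
  haveI : Epi (KoszTw.tensorMap (𝟙 (ClSub.idealMod I)) q) := by
    rw [← KoszTw.tensorBi_obj_map]
    exact ResDesc.epi_tensorMap q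
  rw [twistSub_eq_image, twistSub_eq_image, image_image, ← GPBunLib.ιD_natural, image_epi_comp]

variable (k : Type u) [Field k] [X.Over (Spec (CommRingCat.of k))] [IsProper (X ↘ Spec (CommRingCat.of k))]
  [IsIntegral X]

include k in
/-- A sub-bundle meets `F(-D)` in its own twist. -/
theorem twistSub_pullback (hdim : topologicalKrullDim X ≤ 1) (hD : FGA.IsEffCartier I)
    {S : ShortComplex X.Modules} (hS : S.ShortExact) {m n t : ℕ} (h₁ : FlatMod.IsFinLocFreeOfRank m S.X₁)
    (h₂ : FlatMod.IsFinLocFreeOfRank n S.X₂) (h₃ : FlatMod.IsFinLocFreeOfRank t S.X₃) :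
    (Subobject.pullback S.f).obj (ParSh.twistSub I S.X₂) = ParSh.twistSub I S.X₁ := by
  haveI := CurveRR.isNoetherian_of_proper k X
  haveI : Mono (ParSh.resDMap I S.f) := by
    refine Preadditive.mono_of_isZero_kernel _ (CurveRR.isZero_of_h0 (k := k) I.support.isClosed
      (GPBunLib.dim_support I k hdim hD)
      ((ParHilbLib.support_of_mono (kernel.ι (ParSh.resDMap I S.f))).trans (GPBunLib.support_resD I S.X₁)) ?_)
    have hT : (ShortComplex.mk (kernel.ι (ParSh.resDMap I S.f)) (Abelian.factorThruImage (ParSh.resDMap I S.f))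
        (by rw [← cancel_mono (Abelian.image.ι (ParSh.resDMap I S.f)), Category.assoc, Abelian.image.fac,
          kernel.condition, zero_comp])).ShortExact :=
      { exact := ShortComplex.exact_of_f_is_kernel _ (KernelFork.IsLimit.ofι' _ _ fun {T} x hx =>
          ⟨kernel.lift _ x (by rw [← Abelian.image.fac (ParSh.resDMap I S.f), ← Category.assoc, hx, zero_comp]),
            kernel.lift_ι _ _ _⟩) }
    have hz : Subsingleton (Coh.HH X (kernel (ParSh.resDMap I S.f)) 0) := ⟨fun a b => by
      refine CurveRR.injective_f (k := k) hT (((GPBunLib.fib_exact (k := k) hdim hD hS h₁ h₂ h₃).1) ?_)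
      rw [GPBunLib.fibDMap_eq, GPBunLib.fibDMap_eq]
      show CohFinite.hhMap k _ 0 (CohFinite.hhMap k _ 0 a) = CohFinite.hhMap k _ 0 (CohFinite.hhMap k _ 0 b)
      rw [← CohFinite.hhMap_comp, ← CohFinite.hhMap_comp, kernel.condition, W7Slope.hhMap_zero,
        W7Slope.hhMap_zero]⟩
    haveI := hz
    exact (CurveRR.secH0 (k := k) (kernel (ParSh.resDMap I S.f))).toEquiv.subsingleton
  rw [twistSub_eq_kernel I h₂, twistSub_eq_kernel I h₁, pullback_kernel, ← GPBunLib.qD_natural,
    kernelSubobject_comp_mono]

include k in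
/-- Subobjects above `E(-D)` are coherent. -/
theorem isCoh_of_twistSub_le (hdim : topologicalKrullDim X ≤ 1) (hD : FGA.IsEffCartier I) {n : ℕ}
    {E : X.Modules} (hE : FlatMod.IsFinLocFreeOfRank n E) {A : Subobject E} (hA : ParSh.twistSub I E ≤ A) :
    Coh.IsCoh (A : X.Modules) := by
  haveI := CurveRR.isNoetherian_of_proper k X
  have hEc := CurveRR.isCoh_of_rank hE
  have hQ : Coh.IsCoh (ParSh.resD I E) := GPBunLib.isCoh_resD I hEc
  -- the quotient by `A` is a quotient of `E|_D`
  have h0 : GPBunLib.ιD I E ≫ cokernel.π A.arrow = 0 := by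
    rw [← imageSubobject_arrow_comp (GPBunLib.ιD I E), Category.assoc]
    have h : (imageSubobject (GPBunLib.ιD I E)).arrow ≫ cokernel.π A.arrow = 0 := by
      rw [← Subobject.ofLE_arrow (show imageSubobject (GPBunLib.ιD I E) ≤ A from
        (twistSub_eq_image I E).symm.trans_le hA), Category.assoc, cokernel.condition, comp_zero]
    rw [h, comp_zero]
  have hS := GPBunLib.shortExact_D I hE
  haveI := hS.epi_g
  obtain ⟨c, hc⟩ := CokernelCofork.IsColimit.desc' hS.gIsCokernel (cokernel.π A.arrow) h0
  change GPBunLib.qD I E ≫ c = cokernel.π A.arrow at hc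
  haveI : Epi (GPBunLib.qD I E ≫ c) := by rw [hc]; infer_instance
  haveI : Epi c := epi_of_epi (GPBunLib.qD I E) c
  have hK : Coh.IsCoh (kernel c) := isCoh_sub_of_supported (kernel.ι c) hQ I.support.isClosed
    (GPBunLib.dim_support I k hdim hD) (GPBunLib.support_resD I E)
  have hC : Coh.IsCoh (cokernel A.arrow) := CohFinite.isCoh_of_iso
    (show cokernel (kernel.ι c) ≅ cokernel A.arrow from
      IsColimit.coconePointUniqueUpToIso
        (s := CokernelCofork.ofπ (cokernel.π (kernel.ι c)) (cokernel.condition (kernel.ι c)))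
        (t := CokernelCofork.ofπ c (kernel.condition c))
        (cokernelIsCokernel (kernel.ι c))
        (Abelian.epiIsCokernelOfKernel (KernelFork.ofι (kernel.ι c) (kernel.condition c)) (kernelIsKernel c)))
    (QC.isCoh_cokernel hK.1 hQ _)
  exact CohFinite.isCoh_of_iso
    (IsLimit.conePointUniqueUpToIso (kernelIsKernel (cokernel.π A.arrow))
      (Abelian.monoIsKernelOfCokernel (CokernelCofork.ofπ (cokernel.π A.arrow) (cokernel.condition A.arrow))
        (cokernelIsCokernel A.arrow)))
    (QC.isCoh_kernel hEc hC.1 _)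

end Groth.Agent.ParCurveLib
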