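import Groth.Agent.ParCurveLib.Weights

/-!
Parabolic degrees of images and quotients on a curve.
-/

set_option autoImplicit false
set_option linter.style.haveILetI false
set_option linter.unusedSectionVars false
set_option backward.isDefEq.respectTransparency false

universe u

open CategoryTheory CategoryTheory.Limits AlgebraicGeometry
open Groth.Agent.W7Slope (grk cdeg)

noncomputable section

namespace Groth.Agent.ParCurveLib

variable {X : Scheme.{u}} {I : X.IdealSheafData}

theorem along_coinduced {E V : X.Modules} (S : ParSh.Str E) (hS : S.Along I) (q : E ⟶ V) [Epi q] :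
    (S.coinduced q).Along I := by
  show imageSubobject (S.bot.arrow ≫ q) = _
  rw [show S.bot = ParSh.twistSub I E from hS, twistSub_map]

theorem isParHom_coinduced {E V : X.Modules} (S : ParSh.Str E) (q : E ⟶ V) [Epi q] :
    ParSh.IsParHom S (S.coinduced q) q := fun a _ _ => by
  rw [at_coinduced]
  exact (Subobject.factors_iff _ _).2 ⟨factorThruImageSubobject _, imageSubobject_arrow_comp _⟩

theorem isParHom_induced {E V : X.Modules} (S : ParSh.Str E) (j : V ⟶ E) [Mono j] :
    ParSh.IsParHom (S.induced j) S j := fun a _ _ => by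
  rw [at_induced]
  exact (Subobject.factors_iff _ _).2 ⟨Subobject.pullbackπ j (S.at a), (Subobject.isPullback j (S.at a)).w⟩

theorem isParHom_comp {A B C : X.Modules} {SA : ParSh.Str A} {SB : ParSh.Str B} {SC : ParSh.Str C}
    {f : A ⟶ B} {g : B ⟶ C} (hf : ParSh.IsParHom SA SB f) (hg : ParSh.IsParHom SB SC g) :
    ParSh.IsParHom SA SC (f ≫ g) := fun a h0 h1 => by
  have h := Subobject.factors_of_factors_right ((SB.at a).factorThru _ (hf a h0 h1)) (hg a h0 h1)
  rwa [Subobject.factorThru_arrow_assoc, Category.assoc] at h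

/-- The image of a parabolic map maps into the induced flag. -/
theorem exists_mono_at {E F V : X.Modules} {𝓔 : ParSh.Str E} {𝓕 : ParSh.Str F} {φ : E ⟶ F}
    (hφ : ParSh.IsParHom 𝓔 𝓕 φ) (q : E ⟶ V) [Epi q] {V' : X.Modules} (u : V ⟶ V') [Mono u] (ι : V' ⟶ F)
    [Mono ι] (hfac : q ≫ u ≫ ι = φ) {a : ℝ} (h0 : 0 ≤ a) (h1 : a ≤ 1) :
    ∃ c : (((𝓔.coinduced q).at a : Subobject V) : X.Modules) ⟶ (((𝓕.induced ι).at a : Subobject V') : X.Modules),
      Mono c := by
  rw [at_coinduced, at_induced]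
  have hle : imageSubobject ((𝓔.at a).arrow ≫ q) ≤
      (Subobject.pullback u).obj ((Subobject.pullback ι).obj (𝓕.at a)) := by
    refine ParHilbLib.image_le_pullback q u _ _ (ParHilbLib.pullback_factors ι _ _ ?_)
    rw [show ((𝓔.at a).arrow ≫ q ≫ u) ≫ ι = (𝓔.at a).arrow ≫ φ by simp [← hfac]]
    exact hφ a h0 h1
  refine ⟨Subobject.ofLE _ _ hle ≫ Subobject.pullbackπ u _, ?_⟩
  haveI : Mono (Subobject.pullbackπ u ((Subobject.pullback ι).obj (𝓕.at a))) :=
    ⟨fun x y hxy => by
      apply (Subobject.isPullback u ((Subobject.pullback ι).obj (𝓕.at a))).hom_ext hxy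
      rw [← cancel_mono u, Category.assoc, Category.assoc,
        ← (Subobject.isPullback u ((Subobject.pullback ι).obj (𝓕.at a))).w, reassoc_of% hxy]⟩
  exact mono_comp _ _

variable (k : Type u) [Field k] [X.Over (Spec (CommRingCat.of k))] [IsProper (X ↘ Spec (CommRingCat.of k))]
  [IsIntegral X] (hdim : topologicalKrullDim X ≤ 1) (hD : FGA.IsEffCartier I)
include k hdim hD

theorem twistSub_facts {n : ℕ} {E : X.Modules} (hE : FlatMod.IsFinLocFreeOfRank n E) :
    Coh.IsCoh ((ParSh.twistSub I E : Subobject E) : X.Modules) ∧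
      grk ((ParSh.twistSub I E : Subobject E) : X.Modules) = n ∧
      Curv2.euler k X ((ParSh.twistSub I E : Subobject E) : X.Modules) =
        Curv2.euler k X E - n * Curv2.euler k X (ClSub.quotMod I) := by
  obtain ⟨hc, hr, he⟩ := GPBunLib.negD_facts I k hdim hD hE
  rw [twistSub_eq_kernel I hE]
  exact ⟨CohFinite.isCoh_of_iso (kernelSubobjectIso _).symm hc, (W7Slope.grk_iso (kernelSubobjectIso _)).trans hr,
    (CurveRR.euler_eq_of_iso (kernelSubobjectIso _)).trans he⟩

theorem sub_facts {n : ℕ} {E : X.Modules} (hE : FlatMod.IsFinLocFreeOfRank n E) {A : Subobject E}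
    (hA : ParSh.twistSub I E ≤ A) : Coh.IsCoh (A : X.Modules) ∧ grk (A : X.Modules) = n := by
  haveI := CurveRR.isNoetherian_of_proper k X
  have hc := isCoh_of_twistSub_le I k hdim hD hE hA
  obtain ⟨-, hr, -⟩ := twistSub_facts k hdim hD hE
  have h1 := W7Slope.grk_le_of_mono k (Subobject.ofLE _ _ hA) hc
  have h2 := W7Slope.grk_le_of_mono k A.arrow (CurveRR.isCoh_of_rank hE)
  rw [W7Slope.grk_of_rank hE] at h2
  exact ⟨hc, by omega⟩

/-- The parabolic degree of an image is at most that of its saturation. -/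
theorem parDeg_image_le {E F V V' : X.Modules} {r : ℕ} (hV : FlatMod.IsFinLocFreeOfRank r V)
    (hV' : FlatMod.IsFinLocFreeOfRank r V') (𝓔 : ParSh.Str E) (h𝓔 : 𝓔.Along I) (𝓕 : ParSh.Str F)
    (h𝓕 : 𝓕.Along I) {φ : E ⟶ F} (hφ : ParSh.IsParHom 𝓔 𝓕 φ) (q : E ⟶ V) [Epi q] (u : V ⟶ V') [Mono u]
    (ι : V' ⟶ F) [Mono ι] (hfac : q ≫ u ≫ ι = φ) {s t : ℕ} (hF : FlatMod.IsFinLocFreeOfRank s F)
    {Q : X.Modules} (p : F ⟶ Q) (w : ι ≫ p = 0) (hS : (ShortComplex.mk ι p w).ShortExact)
    (hQ : FlatMod.IsFinLocFreeOfRank t Q) :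
    (𝓔.coinduced q).parDeg k X r ≤ (𝓕.induced ι).parDeg k X r := by
  have hb : (𝓔.coinduced q).bot = ParSh.twistSub I V := along_coinduced 𝓔 h𝓔 q
  have hb' : (𝓕.induced ι).bot = ParSh.twistSub I V' := by
    show (Subobject.pullback ι).obj 𝓕.bot = _
    rw [show 𝓕.bot = ParSh.twistSub I F from h𝓕]
    exact twistSub_pullback I k hdim hD hS hV' hF hQ
  have e := (twistSub_facts k hdim hD hV).2.2
  have e' := (twistSub_facts k hdim hD hV').2.2
  have key : (𝓔.coinduced q).parWt k X ≤ (𝓕.induced ι).parWt k X +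
      ((Curv2.euler k X V' : ℝ) - Curv2.euler k X V) := by
    refine parWt_le _ k _ _ fun a ha => ?_
    obtain ⟨c, hc⟩ := exists_mono_at hφ q u ι hfac ha.1 ha.2
    obtain ⟨hA, hrA⟩ := sub_facts k hdim hD hV (hb.symm.trans_le ((𝓔.coinduced q).bot_le_at a))
    obtain ⟨hB, hrB⟩ := sub_facts k hdim hD hV' (hb'.symm.trans_le ((𝓕.induced ι).bot_le_at a))
    have h := (W7Slope.cdeg_le_of_mono (k := k) hdim c hA hB (hrA.trans hrB.symm)).1
    rw [cdeg, cdeg, hrA, hrB, sub_le_sub_iff_right] at h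
    have h' : (Curv2.euler k X (((𝓔.coinduced q).at a : Subobject V) : X.Modules) : ℝ) ≤
        Curv2.euler k X (((𝓕.induced ι).at a : Subobject V') : X.Modules) := by exact_mod_cast h
    rw [gap, gap, hb, hb', e, e']
    push_cast
    linarith
  unfold ParSh.Str.parDeg Curv2.deg
  push_cast
  linarith

theorem parWt_add {F E G : X.Modules} {m n t : ℕ} (hF : FlatMod.IsFinLocFreeOfRank m F)
    (hE : FlatMod.IsFinLocFreeOfRank n E) (hG : FlatMod.IsFinLocFreeOfRank t G)
    (i : F ⟶ E) [Mono i] (p : E ⟶ G) [Epi p] (w : i ≫ p = 0) (hS : (ShortComplex.mk i p w).ShortExact)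
    (𝓔 : ParSh.Str E) (h𝓔 : 𝓔.Along I) :
    (𝓔.induced i).parWt k X + (𝓔.coinduced p).parWt k X = 𝓔.parWt k X := by
  haveI := CurveRR.isNoetherian_of_proper k X
  have hEc := CurveRR.isCoh_of_rank hE
  have hbF : (𝓔.induced i).bot = ParSh.twistSub I F := by
    show (Subobject.pullback i).obj 𝓔.bot = _
    rw [show 𝓔.bot = ParSh.twistSub I E from h𝓔]
    exact twistSub_pullback I k hdim hD hS hF hE hG
  have key : ∀ j, (Curv2.euler k X ((𝓔.pieceX j : Subobject E) : X.Modules) : ℝ) =
      Curv2.euler k X (((𝓔.induced i).pieceX j : Subobject F) : X.Modules) +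
        Curv2.euler k X (((𝓔.coinduced p).pieceX j : Subobject G) : X.Modules) := fun j => by
    have hA := (sub_facts k hdim hD hE (h𝓔.symm.trans_le (𝓔.bot_le_pieceX j))).1
    have hB := (sub_facts k hdim hD hF (hbF.symm.trans_le ((𝓔.induced i).bot_le_pieceX j))).1
    have hC := (sub_facts k hdim hD hG
      ((along_coinduced 𝓔 h𝓔 p).symm.trans_le ((𝓔.coinduced p).bot_le_pieceX j))).1
    rw [ParHilbLib.pieceX_induced] at hB ⊢
    rw [ParHilbLib.pieceX_coinduced] at hC ⊢
    let A := 𝓔.pieceX j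
    let a := Subobject.pullbackπ i A
    have hpb := Subobject.isPullback i A
    have hw : a ≫ A.arrow ≫ p = 0 := by rw [reassoc_of% hpb.w, w, comp_zero]
    have hw' : a ≫ factorThruImageSubobject (A.arrow ≫ p) = 0 := by
      rw [← cancel_mono (imageSubobject (A.arrow ≫ p)).arrow, Category.assoc, imageSubobject_arrow_comp, hw,
        zero_comp]
    haveI : Mono a := by
      refine ⟨fun u v huv => ?_⟩
      apply hpb.hom_ext huv
      rw [← cancel_mono i, Category.assoc, Category.assoc, ← hpb.w, reassoc_of% huv]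
    have hses : (ShortComplex.mk a (factorThruImageSubobject (A.arrow ≫ p)) hw').ShortExact :=
      { exact := ShortComplex.exact_of_f_is_kernel _ (KernelFork.IsLimit.ofι' _ _ fun {T} x hx => by
          have hx' : (x ≫ A.arrow) ≫ p = 0 := by
            have h' := (Category.assoc _ _ _).symm.trans (congrArg (· ≫ (imageSubobject (A.arrow ≫ p)).arrow) hx)
            rw [imageSubobject_arrow_comp, zero_comp] at h'
            rw [Category.assoc]
            exact h'
          exact ⟨hpb.lift x (KernelFork.IsLimit.lift' hS.fIsKernel (x ≫ A.arrow) hx').1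
              (KernelFork.IsLimit.lift' hS.fIsKernel (x ≫ A.arrow) hx').2.symm, hpb.lift_fst _ _ _⟩)
        mono_f := inferInstanceAs (Mono a)
        epi_g := inferInstanceAs (Epi (factorThruImageSubobject (A.arrow ≫ p))) }
    exact_mod_cast CurveRR.euler_add (k := k) hses hB hA hC
  unfold ParSh.Str.parWt
  refine Eq.trans (Finset.sum_add_distrib (s := (Finset.univ : Finset (Fin (𝓔.l + 1))))).symm
    (Finset.sum_congr rfl fun j _ => ?_)
  have k0 := key j.castSucc
  have k1 := key j.succ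
  simp only [ParSh.Str.pieceX_castSucc] at k0
  show 𝓔.wt j * _ + 𝓔.wt j * _ = _
  rw [k0, k1]
  ring

end Groth.Agent.ParCurveLib
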