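import Groth.Agent.ParCurveLib.Coherent
import Groth.Agent.ParHilbLib.Squeeze
import Mathlib.MeasureTheory.Integral.Bochner.Set
import Mathlib.MeasureTheory.Measure.Lebesgue.Basic

/-!
The weight of a flag as an integral over the real-indexed filtration.
-/

set_option autoImplicit false
set_option linter.style.haveILetI false
set_option linter.unusedSectionVars false
set_option backward.isDefEq.respectTransparency false

universe u

open CategoryTheory CategoryTheory.Limits AlgebraicGeometry MeasureTheory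

noncomputable section

namespace Groth.Agent.ParCurveLib

variable {X : Scheme.{u}}

theorem tail_sum : ∀ (n : ℕ) (c : Fin (n + 2) → ℝ) (i₀ : Fin (n + 2)),
    ∑ j : Fin (n + 1), (if i₀ ≤ j.castSucc then c j.castSucc - c j.succ else 0) = c i₀ - c (Fin.last (n + 1))
  | 0, c, i₀ => by
    fin_cases i₀ <;> simp
  | n + 1, c, i₀ => by
    induction i₀ using Fin.cases with
    | zero =>
      have h := tail_sum n (fun i => c i.succ) 0
      simp only [Fin.zero_le, if_true] at h ⊢
      rw [Fin.sum_univ_succ]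
      simp only [Fin.castSucc_succ, Fin.succ_last] at h ⊢
      rw [h]
      simp
    | succ i =>
      have h := tail_sum n (fun i => c i.succ) i
      rw [Fin.sum_univ_succ, if_neg (by simp [Fin.le_def])]
      simp only [Fin.castSucc_succ, Fin.succ_le_succ_iff, Fin.succ_last, zero_add] at h ⊢
      exact h

variable {E : X.Modules} (S : ParSh.Str E)

/-- The index of the piece `F_a`. -/
theorem exists_idx (a : ℝ) :
    ∃ i : Fin (S.l + 2), (∀ j : Fin (S.l + 1), a ≤ S.wt j ↔ i ≤ j.castSucc) := by
  classical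
  by_cases h : ∃ j, a ≤ S.wt j
  · refine ⟨(Fin.find (p := fun j => a ≤ S.wt j) h).castSucc, fun j => ?_⟩
    rw [Fin.castSucc_le_castSucc_iff]
    exact ⟨fun hj => Fin.find_le_of_pos h hj, fun hj => (Fin.find_spec h).trans (S.wt_strictMono.monotone hj)⟩
  · refine ⟨Fin.last _, fun j => iff_of_false (fun hj => h ⟨j, hj⟩) (not_le.2 (Fin.castSucc_lt_last j))⟩

theorem at_eq_of_idx {a : ℝ} {i : Fin (S.l + 2)} (hi : ∀ j : Fin (S.l + 1), a ≤ S.wt j ↔ i ≤ j.castSucc) :
    S.at a = S.pieceX i := by
  induction i using Fin.lastCases with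
  | last =>
    rw [S.pieceX_last]
    exact S.at_eq_bot fun j => lt_of_not_ge fun hj => not_le.2 (Fin.castSucc_lt_last j) ((hi j).1 hj)
  | cast i =>
    rw [S.pieceX_castSucc]
    refine S.at_eq_piece i ((hi i).2 le_rfl) fun j hj => lt_of_not_ge fun hj' => ?_
    exact not_le.2 hj (Fin.castSucc_le_castSucc_iff.1 ((hi j).1 hj'))

theorem at_coinduced {V : X.Modules} (q : E ⟶ V) [Epi q] (a : ℝ) :
    (S.coinduced q).at a = imageSubobject ((S.at a).arrow ≫ q) := by
  obtain ⟨i, hi⟩ := exists_idx S a
  rw [at_eq_of_idx (S.coinduced q) (i := i) hi, at_eq_of_idx S hi, ParHilbLib.pieceX_coinduced]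

theorem at_induced {V : X.Modules} (j : V ⟶ E) [Mono j] (a : ℝ) :
    (S.induced j).at a = (Subobject.pullback j).obj (S.at a) := by
  obtain ⟨i, hi⟩ := exists_idx S a
  rw [at_eq_of_idx (S.induced j) (i := i) hi, at_eq_of_idx S hi, ParHilbLib.pieceX_induced]

variable (k : Type u) [Field k] [X.Over (Spec (CommRingCat.of k))]

/-- `χ(F_a) − χ(E(-D))`. -/
def gap (a : ℝ) : ℝ :=
  (Curv2.euler k X ((S.at a : Subobject E) : X.Modules) : ℝ) - Curv2.euler k X (S.bot : X.Modules)

/-- The jumps. -/
def jump (j : Fin (S.l + 1)) : ℝ :=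
  (Curv2.euler k X ((S.piece j : Subobject E) : X.Modules) : ℝ) -
    Curv2.euler k X ((S.pieceX j.succ : Subobject E) : X.Modules)

theorem gap_eq (a : ℝ) :
    gap S k a = ∑ j : Fin (S.l + 1), Set.indicator (Set.Iic (S.wt j)) (fun _ => jump S k j) a := by
  obtain ⟨i, hi⟩ := exists_idx S a
  have h := tail_sum S.l (fun i => (Curv2.euler k X ((S.pieceX i : Subobject E) : X.Modules) : ℝ)) i
  rw [gap, at_eq_of_idx S hi]
  simp only [S.pieceX_last] at h
  rw [← h]
  refine Finset.sum_congr rfl fun j _ => ?_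
  simp only [Set.indicator_apply, Set.mem_Iic, hi j, jump, S.pieceX_castSucc]

theorem integrable_gap : IntegrableOn (gap S k) (Set.Icc (0 : ℝ) 1) := by
  have h : gap S k = fun a => ∑ j : Fin (S.l + 1), Set.indicator (Set.Iic (S.wt j)) (fun _ => jump S k j) a :=
    funext (gap_eq S k)
  rw [h]
  exact integrable_finsetSum _ fun j _ =>
    (integrableOn_const (by simp)).indicator measurableSet_Iic

theorem parWt_eq : S.parWt k X = ∫ a in Set.Icc (0 : ℝ) 1, gap S k a := by
  simp only [gap_eq]
  have hi : ∀ j ∈ (Finset.univ : Finset (Fin (S.l + 1))),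
      Integrable (Set.indicator (Set.Iic (S.wt j)) fun _ => jump S k j) (volume.restrict (Set.Icc (0 : ℝ) 1)) :=
    fun j _ => (integrableOn_const (by simp)).indicator measurableSet_Iic
  rw [integral_finsetSum _ hi]
  refine Finset.sum_congr rfl fun j _ => ?_
  rw [setIntegral_indicator measurableSet_Iic, setIntegral_const, smul_eq_mul,
    show Set.Icc (0 : ℝ) 1 ∩ Set.Iic (S.wt j) = Set.Icc 0 (S.wt j) by
      ext x
      have := (S.wt_strictMono.monotone (Fin.le_last j)).trans S.wt_lt_one.le
      simp only [Set.mem_inter_iff, Set.mem_Icc, Set.mem_Iic]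
      exact ⟨fun h => ⟨h.1.1, h.2⟩, fun h => ⟨⟨h.1, h.2.trans this⟩, h.2⟩⟩,
    Real.volume_real_Icc_of_le (S.wt_nonneg.trans (S.wt_strictMono.monotone (Fin.zero_le _))), sub_zero]
  rfl

/-- Two flags compared through their real-indexed filtrations. -/
theorem parWt_le {E' : X.Modules} (T : ParSh.Str E') (c : ℝ)
    (h : ∀ a ∈ Set.Icc (0 : ℝ) 1, gap S k a ≤ gap T k a + c) : S.parWt k X ≤ T.parWt k X + c := by
  rw [parWt_eq, parWt_eq]
  have hc : IntegrableOn (fun _ : ℝ => c) (Set.Icc (0 : ℝ) 1) := integrableOn_const (by simp)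
  refine (setIntegral_mono_on (integrable_gap S k) ((integrable_gap T k).add hc) measurableSet_Icc h).trans
    (le_of_eq ?_)
  show ∫ a in Set.Icc (0 : ℝ) 1, (gap T k a + c) = _
  rw [integral_add (integrable_gap T k) hc, setIntegral_const, Real.volume_real_Icc_of_le zero_le_one]
  simp

end Groth.Agent.ParCurveLib
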